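import Groth.Agent.Lib.Exchange.HomAdj
import Groth.Agent.Lib.RefHull.HomSh
import Groth.Agent.Lib.RefHull.Reflexive
import Groth.Agent.Lib.HomSheaf.Basic
import Groth.Agent.Lib.ProjDualExt.Twist
import Groth.Agent.Lib.ProjCoh.Horrocks
import Groth.Agent.Lib.Curves.SubUnion

/-!
# `H¹` of a dual of a coherent sheaf generically embedded in copies of an invertible sheaf
-/

set_option autoImplicit false
set_option linter.style.haveILetI false
universe u

open CategoryTheory CategoryTheory.Limits AlgebraicGeometry Opposite TopologicalSpace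

noncomputable section

namespace Groth.Agent.Lib.NodalNormal.Dual

open Groth.Agent.Lib Groth.Agent.Lib.Modules
open Groth.Agent.Lib.Modules.StalkModule (stalkMapₗ stalkMapₗ_germ stalkMapₗ_comp stalkMapₗ_id)
open Groth.Agent.Lib.Curves.LES (mapK)
open Groth.Agent.Lib.Curves.SubUnion (stalk_comp_apply)

variable {X : Scheme.{u}}

theorem stalkPair_eq {A M B : X.Modules} (φ : CohB1.tensorMod A M ⟶ B) (x : X)
    (a : A.presheaf.stalk x) (m : M.presheaf.stalk x) :
    ZarCoh.Exchange.HomAdj.stalkPair φ x m a = stalkMapₗ φ x (RefHull.Tensor.pair x a m) := rfl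

theorem evalStalk_curry {A M B : X.Modules} (φ : CohB1.tensorMod A M ⟶ B) (x : X)
    (m : M.presheaf.stalk x) :
    _root_.RefHull.evalStalk A B x (stalkMapₗ (ZarCoh.Exchange.HomAdj.curry φ) x m) =
      ZarCoh.Exchange.HomAdj.stalkPair φ x m := by
  obtain ⟨U, hx, s, rfl⟩ := TopCat.Presheaf.exists_germ_eq M.presheaf m
  rw [stalkMapₗ_germ, _root_.RefHull.evalStalk_germ, ZarCoh.Exchange.HomAdj.curry_app]
  rfl

variable (k : Type u) [Field k] [X.Over (Spec (CommRingCat.of k))]
  [IsProper (X ↘ Spec (CommRingCat.of k))] [IsReduced X]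

include k in
theorem subsingleton_h1_dual (hdim : topologicalKrullDim X ≤ 1) {C T E : X.Modules}
    [DCoh.HasSheafHom C] (hC : Coh.IsCoh C) (hT : PicF.IsInvertible T)
    (hT1 : Subsingleton (Coh.HH X T 1)) {n : ℕ} (p : Fin n → (E ⟶ Coh.structureModule X))
    (s : Fin n → (Coh.structureModule X ⟶ E)) (hps : ∑ j, p j ≫ s j = 𝟙 E)
    (c : CohB1.tensorMod C T ⟶ E)
    (hc : ∀ η ∈ genericPoints X, Function.Injective (stalkMapₗ c η)) :
    Subsingleton (Coh.HH X ((DCoh.sheafHom C).obj (Coh.structureModule X)) 1) := by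
  obtain ⟨e⟩ := ZarCoh.Exchange.HomAdj.nonempty_sheafHom_iso
    (Iso.refl C) (Iso.refl (Coh.structureModule X))
  suffices h : Subsingleton (Coh.HH X (_root_.RefHull.homSh C (Coh.structureModule X)) 1) from
    (Curves.LES.isoK k e 1).injective.subsingleton
  let ψ : (∐ fun _ : Fin n => T) ⟶ _root_.RefHull.homSh C (Coh.structureModule X) :=
    Sigma.desc fun j => ZarCoh.Exchange.HomAdj.curry (c ≫ p j)
  have hsrc : Subsingleton (Coh.HH X (∐ fun _ : Fin n => T) 1) :=
    ProjCoh.Horrocks.subsingleton_HH_sigma (A := k) _ 1 fun _ => hT1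
  refine Function.Surjective.subsingleton (Curves.SubUnion.mapK_surjective_of_generic k hdim ψ ?_)
  intro η hη v
  have hF : IsField (X.presheaf.stalk η) :=
    ModelFibre.MaxPoint.isField_stalk fun y hy => Flat55.GenericPoints.eq_of_specializes hη hy
  letI := hF.toField
  obtain ⟨eT⟩ := ProjDualExt.Twist.nonempty_stalk_equiv hT η
  let t₀ := eT.symm 1
  let a₀ : C.presheaf.stalk η →ₗ[X.presheaf.stalk η] E.presheaf.stalk η :=
    (stalkMapₗ c η).comp ((RefHull.Tensor.pair η).flip t₀)
  have hinj : LinearMap.ker a₀ = ⊥ := by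
    refine LinearMap.ker_eq_bot'.2 fun a ha => ?_
    have h1 : RefHull.Tensor.pair η a t₀ = 0 := hc η hη (ha.trans (map_zero _).symm)
    rw [RefHull.Tensor.pair_apply, LinearEquiv.map_eq_zero_iff] at h1
    have h2 := congrArg (TensorProduct.rid _ _ ∘
      TensorProduct.map LinearMap.id eT.toLinearMap) h1
    simpa [t₀] using h2
  obtain ⟨l, hl⟩ := a₀.exists_leftInverse_of_injective hinj
  let f := _root_.RefHull.evalStalk C (Coh.structureModule X) η v
  let g := f.comp l
  let o := RefHull.Reflexive.oEquiv (X := X) η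
  let one : (Coh.structureModule X).presheaf.stalk η := o.symm 1
  let r : Fin n → X.presheaf.stalk η := fun j => o (g (stalkMapₗ (s j) η one))
  refine ⟨∑ j, stalkMapₗ (Sigma.ι (fun _ : Fin n => T) j) η (r j • t₀), ?_⟩
  refine RefHull.HomSh.evalStalk_injective hC η (LinearMap.ext fun a => ?_)
  rw [map_sum, map_sum, LinearMap.sum_apply]
  have hsum : ∀ w : E.presheaf.stalk η,
      ∑ j, stalkMapₗ (s j) η (stalkMapₗ (p j) η w) = w := by
    intro w
    have h := congrArg (fun φ : E ⟶ E => (StalkModule.stalkModFunctor X η).map φ) hps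
    simp only [Functor.map_sum, CategoryTheory.Functor.map_id] at h
    have h' := congrArg (fun φ => φ.hom w) h
    rw [ModuleCat.hom_sum, ModuleCat.hom_id] at h'
    simp only [← stalk_comp_apply]
    exact (LinearMap.sum_apply Finset.univ _ w).symm.trans h'
  have hfa : f a = g (a₀ a) := congrArg f (LinearMap.congr_fun hl a).symm
  show _ = f a
  rw [hfa, ← hsum (a₀ a), map_sum]
  refine Finset.sum_congr rfl fun j _ => ?_
  rw [← stalk_comp_apply, Sigma.ι_desc, evalStalk_curry, map_smul, LinearMap.smul_apply,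
    stalkPair_eq, stalk_comp_apply]
  have hone : ∀ z, o z • one = z := fun z => by
    rw [← map_smul, smul_eq_mul, mul_one, LinearEquiv.symm_apply_apply]
  rw [← hone (stalkMapₗ (p j) η (a₀ a)), map_smul, map_smul,
    ← hone (g (stalkMapₗ (s j) η one))]
  show r j • stalkMapₗ (p j) η (a₀ a) = _
  rw [← hone (stalkMapₗ (p j) η (a₀ a))]
  simp only [hone]
  set P := stalkMapₗ (p j) η (a₀ a)
  set G := g (stalkMapₗ (s j) η one) with hG
  calc r j • P = o G • (o P • one) := by rw [hone]
    _ = o P • (o G • one) := by rw [smul_smul, smul_smul, mul_comm]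
    _ = o P • G := by rw [hone]

end Groth.Agent.Lib.NodalNormal.Dual
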