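import Groth.Agent.Lib.Conormal92.SplitInj
import Groth.Agent.Lib.Flat55.GenericPoints
import Mathlib.AlgebraicGeometry.Morphisms.Smooth

/-!
# The conormal map into differentials is injective at generic points of a reduced subscheme
-/

set_option autoImplicit false
set_option linter.style.haveILetI false
universe u

open CategoryTheory CategoryTheory.Limits AlgebraicGeometry TopologicalSpace Opposite
open Groth.Agent.Lib

namespace Groth.Agent.Lib.NodalNormal.Generic

open Modules.StalkModule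

theorem formallySmooth_appLE_of_le {X Y : Scheme.{u}} (f : X ⟶ Y) [LocallyOfFinitePresentation f]
    {U : Y.Opens} (hU : IsAffineOpen U) {V : X.Opens} (hV : IsAffineOpen V) (e : V ≤ f ⁻¹ᵁ U)
    (hs : V ≤ f.smoothLocus) : (f.appLE U V e).hom.FormallySmooth := by
  have := f.finitePresentation_appLE hU hV e
  algebraize [(f.appLE U V e).hom]
  refine Algebra.smoothLocus_eq_univ_iff.1 (Set.eq_univ_of_forall fun p => ?_)
  have hp : hV.fromSpec p ∈ V := hV.range_fromSpec.le ⟨p, rfl⟩
  have h := (formallySmooth_stalkMap_iff U hU V hV e hp).1 (hs hp)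
  have he : hV.primeIdealOf ⟨hV.fromSpec p, hp⟩ = p :=
    hV.fromSpec.isOpenEmbedding.injective (hV.fromSpec_primeIdealOf ⟨_, hp⟩)
  rwa [he] at h

theorem injective_stalk {X : Scheme.{u}} {M N : X.Modules} [M.IsQuasicoherent] [N.IsQuasicoherent]
    (φ : M ⟶ N) {U : X.Opens} (hU : IsAffineOpen U) {x : X} (hx : x ∈ U)
    (hinj : Function.Injective (φ.app U)) : Function.Injective (stalkMapₗ φ x) := by
  rw [injective_iff_map_eq_zero]
  intro z hz
  obtain ⟨f, t, hf, hft⟩ := QCoh.Stalk.exists_smul_eq_germ M hU hx z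
  have h0 : N.presheaf.germ U x hx (φ.app U t) = 0 := by
    rw [← stalkMapₗ_germ φ hx t, ← hft, map_smul, hz, smul_zero]
  obtain ⟨g, hg, hg0⟩ := (QCoh.Stalk.germ_eq_zero_iff N hU hx _).1 h0
  have hgt : g • t = 0 := hinj (by rw [Scheme.Modules.Hom.app_smul, hg0, map_zero])
  have ht0 : M.presheaf.germ U x hx t = 0 :=
    (QCoh.Stalk.germ_eq_zero_iff M hU hx t).2 ⟨g, hg, hgt⟩
  rw [ht0] at hft
  exact (((RingedSpace.mem_basicOpen _ f x hx).mp hf)).smul_eq_zero.mp hft

variable {k : Type u} [Field k] [PerfectField k] {Z X : Scheme.{u}} (j : Z ⟶ X) [IsClosedImmersion j]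
  (f : X ⟶ Spec (CommRingCat.of k)) [LocallyOfFiniteType (j ≫ f)] [IsReduced Z]
  {Ω : X.Modules} {d : OmegaSh.Der f Ω}

theorem injective_conormalDiff (hd : OmegaSh.IsUniversal d)
    {φ : Omega.conormal j ⟶ (Scheme.Modules.pullback j).obj Ω} (hφ : OmegaSh.IsConormalDiff j d φ)
    {η : Z} (hη : η ∈ genericPoints Z) : Function.Injective (stalkMapₗ φ η) := by
  haveI := Conormal92.Affine.isQCoh_conormal j
  haveI : Ω.IsQuasicoherent := Kaehler.Finite.isQuasicoherent hd
  haveI : ((Scheme.Modules.pullback j).obj Ω).IsQuasicoherent := QCoh.Pullback.isQCoh_pullback j _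
  haveI : IsLocallyNoetherian Z := LocallyOfFiniteType.isLocallyNoetherian (j ≫ f)
  let O := (j ≫ f).smoothLocus
  have hm : η ∈ O := Flat55.GenericPoints.mem_dense_open
    (j ≫ f).dense_smoothLocus_of_perfectField hη
  obtain ⟨W, hW, hWO⟩ := j.isClosedEmbedding.isInducing.isOpen_iff.1 O.2
  have hjW : j η ∈ (⟨W, hW⟩ : X.Opens) := Eq.mpr (congrArg (fun s : Set Z => η ∈ s) hWO) hm
  obtain ⟨V, hch, hzV, hV⟩ := Conormal92.Affine.exists_chart j η hjW
  have hle : j ⁻¹ᵁ V ≤ O := fun z hz =>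
    show z ∈ O.carrier from Eq.mp (congrArg (fun s : Set Z => z ∈ s) hWO) (hV hz)
  have htop : IsAffineOpen (⊤ : (Spec (CommRingCat.of k)).Opens) := isAffineOpen_top _
  refine injective_stalk φ hch.affine_preimage (show η ∈ j ⁻¹ᵁ V from hzV) ?_
  exact Conormal92.SplitInj.injective_app hd hφ hch htop le_top
    (formallySmooth_appLE_of_le (j ≫ f) htop hch.affine_preimage _ hle)

end Groth.Agent.Lib.NodalNormal.Generic
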